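import Groth.Agent.S0537
import Groth.Agent.StrictModel13.Algebra
import Groth.Prelude.Def_Hens2
import Mathlib.FieldTheory.IsSepClosed
import Mathlib.AlgebraicGeometry.Stalk
import Mathlib.CategoryTheory.Limits.Shapes.Pullback.IsPullback.Basic

/-!
# Strict henselizations after base change to a strict henselization of the base
-/

set_option autoImplicit false
set_option linter.style.haveILetI false
universe u

open CategoryTheory CategoryTheory.Limits AlgebraicGeometry IsLocalRing Polynomial

namespace Groth.Agent.UnitStalk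

/-- A separable element of an overfield lies in the image of a separable closure. -/
theorem mem_range_of_isSepClosed {K A B : Type u} [Field K] [Field A] [Field B] [Algebra K A] [Algebra K B]
    [IsSepClosed A] (τ : A →ₐ[K] B) (b : B) (hb : IsSeparable K b) : b ∈ τ.range := by
  have hs : ((minpoly K b).map (algebraMap K A)).Splits := IsSepClosed.splits_codomain _ hb
  refine hs.mem_range_of_isRoot (i := τ.toRingHom) ?_ ?_
  · exact (Polynomial.map_ne_zero (minpoly.ne_zero hb.isIntegral))
  · rw [Polynomial.map_map, show τ.toRingHom.comp (algebraMap K A) = algebraMap K B from τ.comp_algebraMap, Polynomial.IsRoot.def, Polynomial.eval_map, ← Polynomial.aeval_def,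
      minpoly.aeval]

theorem residue_ext {A B : Type u} [CommRing A] [IsLocalRing A] [CommRing B] [IsLocalRing B]
    (f f' : A →+* B) [IsLocalHom f] [IsLocalHom f'] (h : (residue B).comp f = (residue B).comp f') :
    ResidueField.map f = ResidueField.map f' :=
  RingHom.ext fun a => by
    obtain ⟨r, rfl⟩ := residue_surjective a
    exact congr($h r)

/-- Two maps of spectra into the spectrum of a local ring agreeing in the scheme are equal. -/
theorem hom_eq_of_fromSpecStalk {X : Scheme.{u}} (x : X) {T : Type u} [CommRing T]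
    (f f' : X.presheaf.stalk x →+* T)
    (h : Spec.map (CommRingCat.ofHom f) ≫ X.fromSpecStalk x = Spec.map (CommRingCat.ofHom f') ≫ X.fromSpecStalk x) :
    f = f' := by
  have h1 := Spec.map_injective ((cancel_mono (X.fromSpecStalk x)).1 h)
  exact congrArg CommRingCat.Hom.hom h1

theorem specMap_fromSpecStalk {X Y : Scheme.{u}} (g : X ⟶ Y) (x : X) {T : Type u} [CommRing T]
    (f : X.presheaf.stalk x →+* T) :
    Spec.map (CommRingCat.ofHom (f.comp (g.stalkMap x).hom)) ≫ Y.fromSpecStalk (g x) =
      Spec.map (CommRingCat.ofHom f) ≫ X.fromSpecStalk x ≫ g := by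
  rw [CommRingCat.ofHom_comp, Spec.map_comp, Category.assoc, CommRingCat.ofHom_hom,
    Scheme.SpecMap_stalkMap_fromSpecStalk]

theorem specMap_closed {X : Scheme.{u}} (x : X) {T : Type u} [CommRing T] [IsLocalRing T]
    (f : X.presheaf.stalk x →+* T) [IsLocalHom f] :
    (Spec.map (CommRingCat.ofHom f) ≫ X.fromSpecStalk x) (closedPoint T) = x := by
  haveI : IsLocalHom (CommRingCat.ofHom f).hom := ‹IsLocalHom f›
  exact (Scheme.Hom.comp_apply _ _ _).trans
    ((congrArg (X.fromSpecStalk x) (IsLocalRing.comap_closedPoint f)).trans X.fromSpecStalk_closedPoint)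

theorem exists_stalk_hom {X : Scheme.{u}} {R : Type u} [CommRing R] [IsLocalRing R]
    (q : Spec (CommRingCat.of R) ⟶ X) {x : X} (hx : q (closedPoint R) = x) :
    ∃ (α : X.presheaf.stalk x →+* R) (_ : IsLocalHom α), Spec.map (CommRingCat.ofHom α) ≫ X.fromSpecStalk x = q := by
  subst hx
  exact ⟨(Scheme.stalkClosedPointTo q).hom, inferInstance, Scheme.Spec_stalkClosedPointTo_fromSpecStalk q⟩

theorem exists_spec_hom {R T : Type u} [CommRing R] [IsLocalRing R] [CommRing T] [IsLocalRing T]
    (q : Spec (CommRingCat.of T) ⟶ Spec (CommRingCat.of R)) (hq : q (closedPoint T) = closedPoint R) :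
    ∃ (ψ : R →+* T) (_ : IsLocalHom ψ), Spec.map (CommRingCat.ofHom ψ) = q := by
  refine ⟨(Spec.preimage q).hom, ?_, Spec.map_preimage q⟩
  refine (IsLocalRing.local_hom_TFAE (Spec.preimage q).hom).out 4 0 |>.1 ?_
  rw [← Spec.map_preimage q] at hq
  exact congrArg PrimeSpectrum.asIdeal hq

/-- Maps out of the base compatible with a map to the base change. -/
theorem comp_eq_of_spec {X S X' : Scheme.{u}} {f : X ⟶ S} {p : X' ⟶ X} {R T : Type u} [CommRing R] [CommRing T]
    (x' : X') [Algebra (S.presheaf.stalk (f (p x'))) R] {f' : X' ⟶ Spec (CommRingCat.of R)}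
    (w : p ≫ f = f' ≫ Hens2.specOf S (f (p x')) R) (β : X'.presheaf.stalk x' →+* T) (ψ : R →+* T)
    (he : Spec.map (CommRingCat.ofHom ψ) = (Spec.map (CommRingCat.ofHom β) ≫ X'.fromSpecStalk x') ≫ f') :
    ψ.comp (algebraMap _ R) = (β.comp (p.stalkMap x').hom).comp (f.stalkMap (p x')).hom := by
  refine hom_eq_of_fromSpecStalk _ _ _ ?_
  refine Eq.trans ?_ (specMap_fromSpecStalk f (p x') (β.comp (p.stalkMap x').hom)).symm
  rw [CommRingCat.ofHom_comp, Spec.map_comp, Category.assoc, he, ← Category.assoc (Spec.map (CommRingCat.ofHom (β.comp _))),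
    specMap_fromSpecStalk]
  simp only [Category.assoc]
  rw [w]

theorem apply_closedPoint {X : Scheme.{u}} {R T : Type u} [CommRing R] [IsLocalRing R] [CommRing T] [IsLocalRing T]
    (g : R →+* T) [IsLocalHom g] (q : Spec (CommRingCat.of R) ⟶ X) :
    (Spec.map (CommRingCat.ofHom g) ≫ q) (closedPoint T) = q (closedPoint R) :=
  (Scheme.Hom.comp_apply _ _ _).trans (congrArg q (IsLocalRing.comap_closedPoint g))

variable {X S X' : Scheme.{u}} (f : X ⟶ S) {RS : Type u} [CommRing RS] [IsLocalRing RS]

/-- The comparison maps between strict henselizations. -/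
theorem exists_maps {A B RS RX R' : Type u} [CommRing A] [IsLocalRing A] [CommRing B] [IsLocalRing B] [CommRing RS]
    [IsLocalRing RS] [Algebra A RS] [IsLocalHom (algebraMap A RS)] [hRS : Hensel.IsStrictHenselization A RS]
    [CommRing RX] [IsLocalRing RX] [Algebra B RX] [IsLocalHom (algebraMap B RX)]
    [hRX : Hensel.IsStrictHenselization B RX] [CommRing R'] [HenselianLocalRing R'] [IsSepClosed (ResidueField R')]
    (φ : A →+* B) [IsLocalHom φ] (α : B →+* R') [IsLocalHom α] (ψ' : RS →+* R') [IsLocalHom ψ']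
    (hc' : ψ'.comp (algebraMap A RS) = α.comp φ) :
    ∃ (ψ : RS →+* RX) (_ : IsLocalHom ψ) (g : RX →+* R') (_ : IsLocalHom g),
      ψ.comp (algebraMap A RS) = (algebraMap B RX).comp φ ∧ g.comp (algebraMap B RX) = α ∧ g.comp ψ = ψ' := by
  haveI := hRX.henselian
  haveI := hRX.isSepClosure.sep_closed
  haveI := hRX.isSepClosure.separable
  haveI := hRS.isSepClosure.separable
  haveI : IsLocalHom (α.comp φ) := RingHom.isLocalHom_comp _ _
  letI : Algebra (ResidueField B) (ResidueField R') := (ResidueField.map α).toAlgebra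
  let τ : ResidueField RX →ₐ[ResidueField B] ResidueField R' := IsSepClosed.lift
  let τ₀ : ResidueField RS →+* ResidueField R' := ResidueField.map ψ'
  have hrange : ∀ a, τ₀ a ∈ τ.range := fun a => by
    refine mem_range_of_isSepClosed τ _ ?_
    letI : Algebra (ResidueField A) (ResidueField B) := (ResidueField.map φ).toAlgebra
    letI : Algebra (ResidueField A) (ResidueField R') := ((ResidueField.map α).comp (ResidueField.map φ)).toAlgebra
    haveI : IsScalarTower (ResidueField A) (ResidueField B) (ResidueField R') :=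
      IsScalarTower.of_algebraMap_eq fun _ => rfl
    let τ₁ : ResidueField RS →ₐ[ResidueField A] ResidueField R' :=
      { τ₀ with
        commutes' := fun c => by
          obtain ⟨r, rfl⟩ := residue_surjective c
          exact congrArg (residue R') congr($hc' r) }
    exact IsSeparable.tower_top (ResidueField B) (show IsSeparable (ResidueField A) (τ₁ a) from
      IsSeparable.map τ₁ τ₁.toRingHom.injective (Algebra.IsSeparable.isSeparable (ResidueField A) a))
  choose σ hσ using hrange
  let τS : ResidueField RS →+* ResidueField RX :=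
    { toFun := σ
      map_one' := τ.injective (by rw [hσ, map_one, map_one])
      map_mul' := fun a b => τ.injective (by rw [hσ, map_mul, map_mul, hσ, hσ])
      map_zero' := τ.injective (by rw [hσ, map_zero, map_zero])
      map_add' := fun a b => τ.injective (by rw [hσ, map_add, map_add, hσ, hσ]) }
  let αX : B →+* RX := algebraMap B RX
  haveI : IsLocalHom αX := inferInstanceAs (IsLocalHom (algebraMap B RX))
  haveI : IsLocalHom (αX.comp φ) := RingHom.isLocalHom_comp _ _
  obtain ⟨g, ⟨hg, hgr⟩, -⟩ := hRX.universal R' α τ.toRingHom (RingHom.ext fun c => τ.commutes c)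
  obtain ⟨ψ, ⟨hψ, hψr⟩, -⟩ := hRS.universal RX (αX.comp φ) τS (RingHom.ext fun c => τ.injective (by
    obtain ⟨r, rfl⟩ := residue_surjective c
    refine (hσ _).trans ((congrArg (residue R') congr($hc' r)).trans ?_)
    exact (τ.commutes (residue B (φ r))).symm))
  obtain ⟨G, -, huniq⟩ := hRS.universal R' (α.comp φ) τ₀ (RingHom.ext fun c => by
    obtain ⟨r, rfl⟩ := residue_surjective c
    exact congrArg (residue R') congr($hc' r))
  refine ⟨ψ, ⟨fun a ha => ?_⟩, g, ⟨fun a ha => ?_⟩, hψ, hg,
    (huniq _ ⟨?_, fun a => ?_⟩).trans (huniq _ ⟨hc', fun a => rfl⟩).symm⟩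
  · by_contra h
    have h0 : residue RX (ψ a) = 0 := by rw [hψr, (residue_eq_zero_iff a).2 h, map_zero]
    exact ((residue_eq_zero_iff _).1 h0) ha
  · by_contra h
    have h0 : residue R' (g a) = 0 := by rw [hgr, (residue_eq_zero_iff a).2 h, map_zero]
    exact ((residue_eq_zero_iff _).1 h0) ha
  · rw [RingHom.comp_assoc, hψ, ← RingHom.comp_assoc, hg]
  · exact (hgr (ψ a)).trans ((congrArg τ (hψr a)).trans (hσ _))

/-- Two maps out of the local ring of the base change agreeing on `X` and modulo the maximal ideal are equal. -/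
theorem eq_of_residue {p : X' ⟶ X} {x' : X'} [Algebra (S.presheaf.stalk (f (p x'))) RS]
    [IsLocalHom (algebraMap (S.presheaf.stalk (f (p x'))) RS)]
    [Hensel.IsStrictHenselization (S.presheaf.stalk (f (p x'))) RS] {f' : X' ⟶ Spec (CommRingCat.of RS)}
    (cX : IsPullback p f' f (Hens2.specOf S (f (p x')) RS)) (hx' : f' x' = closedPoint RS) {T : Type u} [CommRing T]
    [HenselianLocalRing T] (f₁ f₂ : X'.presheaf.stalk x' →+* T) [IsLocalHom f₁] [IsLocalHom f₂]
    (h : f₁.comp (p.stalkMap x').hom = f₂.comp (p.stalkMap x').hom)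
    (hr : (residue T).comp f₁ = (residue T).comp f₂) : f₁ = f₂ := by
  have hrs : Hensel.IsStrictHenselization (S.presheaf.stalk (f (p x'))) RS := inferInstance
  refine hom_eq_of_fromSpecStalk _ _ _ (cX.hom_ext ?_ ?_)
  · rw [Category.assoc, ← specMap_fromSpecStalk, h, specMap_fromSpecStalk, Category.assoc]
  obtain ⟨h₁, hh₁, he₁⟩ := exists_spec_hom ((Spec.map (CommRingCat.ofHom f₁) ≫ X'.fromSpecStalk x') ≫ f')
    ((Scheme.Hom.comp_apply _ _ _).trans ((congrArg f' (specMap_closed x' f₁)).trans hx'))
  obtain ⟨h₂, hh₂, he₂⟩ := exists_spec_hom ((Spec.map (CommRingCat.ofHom f₂) ≫ X'.fromSpecStalk x') ≫ f')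
    ((Scheme.Hom.comp_apply _ _ _).trans ((congrArg f' (specMap_closed x' f₂)).trans hx'))
  rw [← he₁, ← he₂]
  have hb₁ := comp_eq_of_spec x' cX.w f₁ h₁ he₁
  have hb₂ := comp_eq_of_spec x' cX.w f₂ h₂ he₂
  have hres : (residue T).comp h₁ = (residue T).comp h₂ := by
    have e : Spec.map (CommRingCat.ofHom ((residue T).comp h₁)) =
        Spec.map (CommRingCat.ofHom ((residue T).comp h₂)) := by
      rw [CommRingCat.ofHom_comp, CommRingCat.ofHom_comp, Spec.map_comp, Spec.map_comp, he₁, he₂,
        ← Category.assoc, ← Category.assoc, ← Category.assoc, ← Category.assoc, ← Spec.map_comp, ← Spec.map_comp,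
        ← CommRingCat.ofHom_comp, ← CommRingCat.ofHom_comp, hr]
    exact congrArg CommRingCat.Hom.hom (Spec.map_injective e)
  haveI := RingHom.isLocalHom_comp f₁ (p.stalkMap x').hom
  haveI := RingHom.isLocalHom_comp (f₁.comp (p.stalkMap x').hom) (f.stalkMap (p x')).hom
  obtain ⟨G, -, huniq⟩ := hrs.universal T ((f₁.comp (p.stalkMap x').hom).comp (f.stalkMap (p x')).hom)
    (ResidueField.map h₁) (RingHom.ext fun c => by
      obtain ⟨r, rfl⟩ := residue_surjective c
      exact congrArg (residue T) congr($hb₁ r))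
  have e1 : h₁ = G := huniq _ ⟨hb₁, fun a => rfl⟩
  have e2 : h₂ = G := huniq _ ⟨hb₂.trans (by rw [h]), fun a => congr($hres.symm a)⟩
  rw [e1, e2]

set_option maxHeartbeats 1000000 in
/-- A strict henselization at a point over `x` of the base change of `X` to a strict henselization of the
base, above the closed point, is one of `X` at `x`. -/
theorem exists_strict {s : S} [Algebra (S.presheaf.stalk s) RS] [IsLocalHom (algebraMap (S.presheaf.stalk s) RS)]
    [Hensel.IsStrictHenselization (S.presheaf.stalk s) RS] {f' : X' ⟶ Spec (CommRingCat.of RS)} {p : X' ⟶ X}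
    (cX : IsPullback p f' f (Hens2.specOf S s RS)) (x' : X') (hx' : f' x' = closedPoint RS) (hs : f (p x') = s) :
    ∃ (RX : Type u) (_ : CommRing RX) (_ : IsLocalRing RX) (_ : Algebra (X.presheaf.stalk (p x')) RX)
      (_ : IsLocalHom (algebraMap (X.presheaf.stalk (p x')) RX))
      (_ : Hensel.IsStrictHenselization (X.presheaf.stalk (p x')) RX)
      (_ : Algebra (X'.presheaf.stalk x') RX) (_ : IsLocalHom (algebraMap (X'.presheaf.stalk x') RX))
      (_ : Hensel.IsStrictHenselization (X'.presheaf.stalk x') RX) (ψ : RS →+* RX) (_ : IsLocalHom ψ),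
      Hens2.specOf X' x' RX ≫ p = Hens2.specOf X (p x') RX ∧
      Hens2.specOf X' x' RX ≫ f' = Spec.map (CommRingCat.ofHom ψ) ∧
      Spec.map (CommRingCat.ofHom ψ) ≫ Hens2.specOf S s RS = Hens2.specOf X (p x') RX ≫ f := by
  subst hs
  let Ox := X.presheaf.stalk (p x')
  let ι : Ox →+* X'.presheaf.stalk x' := (p.stalkMap x').hom
  let φ : S.presheaf.stalk (f (p x')) →+* Ox := (f.stalkMap (p x')).hom
  haveI hι : IsLocalHom ι := inferInstanceAs (IsLocalHom (p.stalkMap x').hom)
  haveI hφ : IsLocalHom φ := inferInstanceAs (IsLocalHom (f.stalkMap (p x')).hom)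
  obtain ⟨RX, i1, i2, i3, i4, hRX⟩ := S0537.result Ox
  obtain ⟨R', _, _, _, _, hR'⟩ := S0537.result (X'.presheaf.stalk x')
  haveI := hRX.henselian
  haveI := hR'.henselian
  haveI := hRX.isSepClosure.sep_closed
  haveI := hR'.isSepClosure.sep_closed
  haveI := hRX.isSepClosure.separable
  haveI hRS : Hensel.IsStrictHenselization (S.presheaf.stalk (f (p x'))) RS := inferInstance
  haveI := hRS.isSepClosure.separable
  let β : X'.presheaf.stalk x' →+* R' := algebraMap _ R'
  haveI hβ : IsLocalHom β := inferInstanceAs (IsLocalHom (algebraMap (X'.presheaf.stalk x') R'))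
  let α : Ox →+* R' := β.comp ι
  haveI hα : IsLocalHom α := RingHom.isLocalHom_comp _ _
  let y := Spec.map (CommRingCat.ofHom β) ≫ X'.fromSpecStalk x'
  have hy : y (closedPoint R') = x' := specMap_closed x' β
  obtain ⟨ψ', hψ', hψ'e⟩ := exists_spec_hom (y ≫ f') ((Scheme.Hom.comp_apply _ _ _).trans ((congrArg f' hy).trans hx'))
  have hc' : ψ'.comp (algebraMap _ RS) = α.comp φ := comp_eq_of_spec x' cX.w β ψ' hψ'e
  haveI : IsLocalHom (α.comp φ) := RingHom.isLocalHom_comp _ _
  obtain ⟨ψ, hψl, g, hgl, hψ, hg, hgψ⟩ := exists_maps φ α ψ' hc' (RX := RX)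
  have hw : Hens2.specOf X (p x') RX ≫ f = Spec.map (CommRingCat.ofHom ψ) ≫ Hens2.specOf S (f (p x')) RS := by
    rw [Hens2.specOf, Hens2.specOf, Category.assoc, ← Category.assoc (Spec.map (CommRingCat.ofHom ψ)), ← Spec.map_comp,
      ← CommRingCat.ofHom_comp, hψ, specMap_fromSpecStalk]
  obtain ⟨q, hqf, hqs⟩ : ∃ q : Spec (CommRingCat.of RX) ⟶ X', q ≫ p = Hens2.specOf X (p x') RX ∧
      q ≫ f' = Spec.map (CommRingCat.ofHom ψ) := ⟨cX.lift _ _ hw, cX.lift_fst _ _ _, cX.lift_snd _ _ _⟩
  have hq : Spec.map (CommRingCat.ofHom g) ≫ q = y := by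
    apply cX.hom_ext
    · rw [Category.assoc, hqf, Hens2.specOf, ← Category.assoc, ← Spec.map_comp, ← CommRingCat.ofHom_comp, hg,
        Category.assoc]
      exact (specMap_fromSpecStalk p x' β)
    · rw [Category.assoc, hqs, ← Spec.map_comp, ← CommRingCat.ofHom_comp, hgψ, hψ'e]
  obtain ⟨α', hα', hα'e⟩ := exists_stalk_hom q (x := x')
    ((apply_closedPoint g q).symm.trans ((congrArg (fun t : Spec (CommRingCat.of R') ⟶ X' => t (closedPoint R')) hq).trans hy))
  have hc : α'.comp ι = algebraMap Ox RX := hom_eq_of_fromSpecStalk _ _ _ (by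
    rw [specMap_fromSpecStalk, ← Category.assoc, hα'e]
    exact hqf)
  letI : Algebra (X'.presheaf.stalk x') RX := α'.toAlgebra
  haveI : IsLocalHom (algebraMap (X'.presheaf.stalk x') RX) := hα'
  have hstr : Hensel.IsStrictHenselization (X'.presheaf.stalk x') RX := by
    refine StrictModel13.isStrictHenselization_of_rigid ι hc fun T _ _ f₁ f₂ _ _ h hr => ?_
    exact eq_of_residue f cX hx' f₁ f₂ h hr
  exact ⟨RX, i1, i2, i3, i4, hRX, α'.toAlgebra, hα', hstr, ψ, hψl,
    (congrArg (· ≫ p) hα'e).trans hqf, (congrArg (· ≫ f') hα'e).trans hqs, hw.symm⟩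

end Groth.Agent.UnitStalk
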