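import Groth.Agent.EtBC.Crit
import Groth.Agent.EtFound.UnivInjPush
import Groth.Agent.EtFound.PushExact
import Groth.Agent.SiteBase.LerayTop

/-!
# The unit of `h^* ⊣ h_*` on the stalks, in terms of strict localizations
-/

set_option autoImplicit false
set_option linter.style.haveILetI false
universe u

open CategoryTheory CategoryTheory.Limits AlgebraicGeometry Opposite

namespace Groth.Agent.UnitStalk

open Groth.Agent.EtLimit Groth.Agent.EtFound Groth.Agent.EtBC

set_option backward.isDefEq.respectTransparency.types false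

variable {X Y T : Scheme.{u}} (h : Y ⟶ X) [QuasiCompact h] [QuasiSeparated h]
  [PreservesFiniteLimits (EtCoh.pull h)] {π : T ⟶ X} (P : EtPres π) {Ω : Type u} [Field Ω] [IsSepClosed Ω]
  {z : Spec (CommRingCat.of Ω) ⟶ T} (hz : LiftsUniquely π z)
  [PreservesFiniteLimits (EtCoh.pull (pullback.snd h π))] (F : EtCoh.Ab X)

include P hz in
theorem isIso_stalk_bcQ_id (q : ℕ)
    (hbij : Function.Bijective (hVia (pullback.snd h π) π (pullback.fst h π ≫ h) pullback.condition.symm F q)) :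
    IsIso ((EtCoh.stalk (z ≫ π)).map (EtBC.bcQ (𝟙 X) (𝟙 X) h h rfl q F)) := by
  let u := pullback.fst h π ≫ h
  let m : pullback h π ⟶ pullback (𝟙 X) π := pullback.lift u (pullback.snd h π)
    (by rw [Category.comp_id]; exact pullback.condition)
  have hmu : m ≫ pullback.fst (𝟙 X) π = u := pullback.lift_fst _ _ _
  haveI : PreservesFiniteLimits (EtCoh.pull m) := pull_preservesFiniteLimits _
  refine (isIso_stalk_bcQ_iff (f := 𝟙 X) (g := 𝟙 X) (f' := h) (g' := h) rfl (z := z) (z' := z) (u := u) rfl hmu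
    hz hz (m₀ := 𝟙 T) (by rw [Category.id_comp, Category.comp_id]) (Category.comp_id _)
    ((pullback.lift_snd _ _ _).trans (Category.comp_id _).symm) P P F q).2 ?_
  let i : T ≅ pullback (𝟙 X) π := (asIso (pullback.snd (𝟙 X) π)).symm
  let j : pullback h π ≅ pullback h π := Iso.refl _
  haveI : PreservesFiniteLimits (EtCoh.pull i.hom) := pull_preservesFiniteLimits _
  haveI : PreservesFiniteLimits (EtCoh.pull j.hom) := pull_preservesFiniteLimits _
  haveI : PreservesFiniteLimits (EtCoh.pull (j.hom ≫ m)) := pull_preservesFiniteLimits _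
  refine (hVia_bijective_iff m (pullback.fst (𝟙 X) π) u hmu (pullback.snd h π) π u pullback.condition.symm i j
    ?_ (Category.id_comp _) ?_ F q).2 hbij
  · show inv (pullback.snd (𝟙 X) π) ≫ pullback.fst (𝟙 X) π = π
    rw [IsIso.inv_comp_eq, ← pullback.condition, Category.comp_id]
  · show 𝟙 _ ≫ m = pullback.snd h π ≫ inv (pullback.snd (𝟙 X) π)
    rw [Category.id_comp, IsIso.eq_comp_inv]
    exact pullback.lift_snd _ _ _

omit [QuasiCompact h] [QuasiSeparated h] [PreservesFiniteLimits (EtCoh.pull h)] in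
/-- The base change map of the trivial square is the unit, up to isomorphisms. -/
theorem isIso_map_unit_of_bc0 {D : Type*} [Category* D] (Φ : EtCoh.Ab X ⥤ D)
    (hbc : IsIso (Φ.map (EtCoh.baseChange0 (𝟙 X) (𝟙 X) h h rfl F))) :
    IsIso (Φ.map ((EtCoh.pullPushAdj h).unit.app F)) := by
  let a := (EtCoh.pullPushAdj h).unit.app F
  let M := (EtCoh.push h).obj ((EtCoh.pull h).obj F)
  let K : (EtCoh.push (𝟙 X)).obj M ⟶ (EtCoh.push (𝟙 X)).obj M :=
    (EtCoh.pushComp (𝟙 X) h).hom.app _ ≫ (EtCoh.pushCongr (rfl : h ≫ 𝟙 X = h ≫ 𝟙 X)).hom.app _ ≫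
      (EtCoh.pushComp (𝟙 X) h).inv.app _
  have e : EtCoh.baseChange0 (𝟙 X) (𝟙 X) h h rfl F =
      (EtCoh.pull (𝟙 X)).map ((EtCoh.push (𝟙 X)).map a) ≫ (EtCoh.pull (𝟙 X)).map K ≫
        (EtCoh.pullPushAdj (𝟙 X)).counit.app M := by
    rw [EtCoh.baseChange0, Adjunction.homEquiv_counit, Functor.map_comp, Category.assoc]
  rw [e, Φ.map_comp] at hbc
  haveI := counit_isIso_of_integral_univInj (𝟙 X) M
  haveI := counit_isIso_of_integral_univInj (𝟙 X) F
  haveI : IsIso K := inferInstance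
  haveI : IsIso (Φ.map ((EtCoh.pull (𝟙 X)).map ((EtCoh.push (𝟙 X)).map a))) :=
    IsIso.of_isIso_comp_right _ (Φ.map ((EtCoh.pull (𝟙 X)).map K ≫ (EtCoh.pullPushAdj (𝟙 X)).counit.app M))
  have hnat : Φ.map ((EtCoh.pullPushAdj (𝟙 X)).counit.app F) ≫ Φ.map a =
      Φ.map ((EtCoh.pull (𝟙 X)).map ((EtCoh.push (𝟙 X)).map a)) ≫ Φ.map ((EtCoh.pullPushAdj (𝟙 X)).counit.app M) := by
    rw [← Φ.map_comp, ← Φ.map_comp]
    exact congrArg Φ.map ((EtCoh.pullPushAdj (𝟙 X)).counit.naturality a).symm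
  haveI : IsIso (Φ.map ((EtCoh.pullPushAdj (𝟙 X)).counit.app F) ≫ Φ.map a) := by
    rw [hnat]
    infer_instance
  exact IsIso.of_isIso_comp_left (Φ.map ((EtCoh.pullPushAdj (𝟙 X)).counit.app F)) _

include P hz in
/-- The unit is bijective on the stalk when the fibre of `h` over the strict localization has the same
global sections. -/
theorem isIso_stalk_unit
    (hbij : Function.Bijective (hVia (pullback.snd h π) π (pullback.fst h π ≫ h) pullback.condition.symm F 0)) :
    IsIso ((EtCoh.stalk (z ≫ π)).map ((EtCoh.pullPushAdj h).unit.app F)) := by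
  refine isIso_map_unit_of_bc0 h F (EtCoh.stalk (z ≫ π)) ?_
  haveI := isIso_stalk_bcQ_id h P hz F 0 hbij
  haveI := push_preservesFiniteLimits (𝟙 X)
  haveI := push_preservesFiniteLimits h
  let r := (EtCoh.push (𝟙 X)).toRightDerivedZero.app F
  let r' := (EtCoh.push h).toRightDerivedZero.app ((EtCoh.pull h).obj F)
  haveI : IsIso ((EtCoh.stalk (z ≫ π)).map (EtCoh.baseChange0 (𝟙 X) (𝟙 X) h h rfl F) ≫
      (EtCoh.stalk (z ≫ π)).map r') := by
    rw [← Functor.map_comp, ← EtBC.bcQ_zero_compat, Functor.map_comp]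
    infer_instance
  exact IsIso.of_isIso_comp_right _ ((EtCoh.stalk (z ≫ π)).map r')

include P hz in
/-- The higher direct images of an inverse image vanish on the stalk when the fibre is acyclic. -/
theorem isZero_stalk_Rpush (q : ℕ) (hq : 0 < q)
    (hbij : Function.Bijective (hVia (pullback.snd h π) π (pullback.fst h π ≫ h) pullback.condition.symm F q)) :
    IsZero ((EtCoh.stalk (z ≫ π)).obj ((EtCoh.Rpush h q).obj ((EtCoh.pull h).obj F))) := by
  haveI := isIso_stalk_bcQ_id h P hz F q hbij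
  obtain ⟨k, rfl⟩ : ∃ k, q = k + 1 := ⟨q - 1, by omega⟩
  haveI := push_preservesFiniteLimits (𝟙 X)
  haveI := push_preservesFiniteColimits (𝟙 X)
  have h0 : IsZero ((EtCoh.Rpush (𝟙 X) (k + 1)).obj F) :=
    LerayDegen.isZero_rightDerived_of_exact (EtCoh.push (𝟙 X)) F k
  haveI : (EtCoh.stalk (z ≫ π)).Additive := Functor.additive_of_preserves_binary_products _
  have h1 : IsZero ((EtCoh.stalk (z ≫ π)).obj ((EtCoh.pull (𝟙 X)).obj ((EtCoh.Rpush (𝟙 X) (k + 1)).obj F))) := by
    haveI : (EtCoh.pull (𝟙 X)).PreservesZeroMorphisms :=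
      haveI := (EtCoh.pullPushAdj (𝟙 X)).leftAdjoint_preservesColimits
      Functor.preservesZeroMorphisms_of_preserves_initial_object
    exact Functor.map_isZero _ (Functor.map_isZero _ h0)
  exact h1.of_iso (asIso ((EtCoh.stalk (z ≫ π)).map (EtBC.bcQ (𝟙 X) (𝟙 X) h h rfl (k + 1) F))).symm

end Groth.Agent.UnitStalk
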