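import Groth.Agent.UnitStalk.Main
import Groth.Agent.UnitStalk.StrictPullback
import Groth.Prelude.Def_SGA4h

/-!
# Local acyclicity as bijectivity of the pullback to the fibres of the strict localizations
-/

set_option autoImplicit false
set_option linter.style.haveILetI false
universe u

open CategoryTheory CategoryTheory.Limits AlgebraicGeometry Opposite IsLocalRing TensorProduct

namespace Groth.Agent.UnitStalk

open Groth.Agent.EtLimit Groth.Agent.EtFound Groth.Agent.EtBC

set_option backward.isDefEq.respectTransparency.types false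

/-- a geometric point over `x` comes from each strict henselization at `x` -/
theorem exists_resPt {X : Scheme.{u}} {Ω : Type u} [Field Ω] [IsSepClosed Ω]
    (ξ : Spec (CommRingCat.of Ω) ⟶ X) {x : X} (hx : ξ (default : Spec (CommRingCat.of Ω)) = x)
    (R : Type u) [CommRing R] [IsLocalRing R] [Algebra (X.presheaf.stalk x) R]
    [IsLocalHom (algebraMap (X.presheaf.stalk x) R)] [Hensel.IsStrictHenselization (X.presheaf.stalk x) R] :
    ∃ τ : ResidueField R →+* Ω, resPt R τ ≫ Hens2.specOf X x R = ξ := by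
  obtain ⟨⟨y, φ⟩, rfl⟩ := (Scheme.SpecToEquivOfField Ω X).symm.surjective ξ
  obtain rfl : y = x := by
    rw [← hx, Scheme.SpecToEquivOfField]
    exact ((Scheme.Hom.comp_apply _ _ _).trans (Scheme.fromSpecResidueField_apply _ _)).symm
  haveI : IsLocalRing (X.presheaf.stalk y) := inferInstance
  letI : Algebra (ResidueField (X.presheaf.stalk y)) Ω := φ.hom.toAlgebra
  haveI : Algebra.IsSeparable (ResidueField (X.presheaf.stalk y)) (ResidueField R) :=
    (Hensel.IsStrictHenselization.isSepClosure (R := X.presheaf.stalk y) (S := R)).separable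
  let τ : ResidueField R →ₐ[ResidueField (X.presheaf.stalk y)] Ω := IsSepClosed.lift
  refine ⟨τ.toRingHom, ?_⟩
  rw [Scheme.SpecToEquivOfField]
  show _ = Spec.map φ ≫ X.fromSpecResidueField y
  rw [Scheme.fromSpecResidueField, resPt, Hens2.specOf, ← Category.assoc, ← Category.assoc, ← Spec.map_comp,
    ← Spec.map_comp]
  refine congrArg (fun h => Spec.map h ≫ _) ?_
  ext a
  exact τ.commutes (residue (X.presheaf.stalk y) a)

/-- bijectivity of the pullback only depends on the sheaf up to isomorphism -/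
theorem Hpull_bijective_of_iso {U V : Scheme.{u}} (J : U ⟶ V) [PreservesFiniteLimits (EtCoh.pull J)]
    {G G' : EtCoh.Ab V} (e : G ⟶ G') [IsIso e] (n : ℕ) (h : Function.Bijective (EtCore.Hpull J G' n)) :
    Function.Bijective (EtCore.Hpull J G n) := by
  have hb : ∀ (H : EtCoh.Ab V) (ξ : EtCoh.H V H n), hThen J H (𝟙 _) n ξ = EtCore.Hpull J H n ξ := fun H ξ => by
    show ((EtCoh.HF U n).map (𝟙 ((EtCoh.pull J).obj H))).hom (EtCore.Hpull J H n ξ) = _
    rw [CategoryTheory.Functor.map_id]
    rfl
  have hfun : (fun ξ => hmap ((EtCoh.pull J).map e) n (EtCore.Hpull J G n ξ)) =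
      fun ξ => EtCore.Hpull J G' n (hmap e n ξ) := funext fun ξ => by
    rw [← hb G ξ, ← hb G' (hmap e n ξ)]
    exact (HpullThen_hmap J (𝟙 _) (𝟙 _) e ((EtCoh.pull J).map e) (by rw [Category.id_comp, Category.comp_id]) n ξ).symm
  have h2 : Function.Bijective (fun ξ => hmap ((EtCoh.pull J).map e) n (EtCore.Hpull J G n ξ)) := by
    rw [hfun]
    exact h.comp (hmap_bijective e n)
  exact (Function.Bijective.of_comp_iff' (hmap_bijective ((EtCoh.pull J).map e) n) (EtCore.Hpull J G n)).1 h2

variable {X S X' : Scheme.{u}} {f : X ⟶ S} {F : EtCoh.Ab X} {RS : Type u} [CommRing RS] [IsLocalRing RS]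
  {f' : X' ⟶ Spec (CommRingCat.of RS)} {p : X' ⟶ X} {x' : X'} {s : S}
  [Algebra (S.presheaf.stalk s) RS] [IsLocalHom (algebraMap (S.presheaf.stalk s) RS)]
  [Hensel.IsStrictHenselization (S.presheaf.stalk s) RS]

/-- local acyclicity at `x` for the fibre of the strict localization at `x'` -/
theorem bijective_fibre (hla : SGA4h.IsLARelAt f F (p x')) (hs : f (p x') = s)
    (RX : Type u) [CommRing RX] [IsLocalRing RX] [Algebra (X.presheaf.stalk (p x')) RX]
    [IsLocalHom (algebraMap (X.presheaf.stalk (p x')) RX)] [Hensel.IsStrictHenselization (X.presheaf.stalk (p x')) RX]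
    [Algebra (X'.presheaf.stalk x') RX] (ψ : RS →+* RX) [IsLocalHom ψ]
    (hq : Hens2.specOf X' x' RX ≫ p = Hens2.specOf X (p x') RX)
    (hψ : Hens2.specOf X' x' RX ≫ f' = Spec.map (CommRingCat.ofHom ψ))
    (hbase : Spec.map (CommRingCat.ofHom ψ) ≫ Hens2.specOf S s RS = Hens2.specOf X (p x') RX ≫ f)
    {Ω : Type u} [Field Ω] [IsSepClosed Ω] (τ : RS →+* Ω) {Xt : Scheme.{u}} (h : Xt ⟶ X')
    (ft : Xt ⟶ Spec (CommRingCat.of Ω)) (ct : IsPullback h ft f' (Spec.map (CommRingCat.ofHom τ)))
    [PreservesFiniteLimits (EtCoh.pull (pullback.snd h (Hens2.specOf X' x' RX)))] (n : ℕ) :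
    Function.Bijective (hVia (pullback.snd h (Hens2.specOf X' x' RX)) (Hens2.specOf X' x' RX)
      (pullback.fst h (Hens2.specOf X' x' RX) ≫ h) pullback.condition.symm ((EtCoh.pull p).obj F) n) := by
  subst hs
  letI : Algebra RS RX := ψ.toAlgebra
  haveI : IsLocalHom (algebraMap RS RX) := inferInstanceAs (IsLocalHom ψ)
  letI : Algebra RS Ω := τ.toAlgebra
  have hcomp : (algebraMap RS RX).comp (algebraMap (S.presheaf.stalk (f (p x'))) RS) =
      (algebraMap (X.presheaf.stalk (p x')) RX).comp (f.stalkMap (p x')).hom := by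
    refine hom_eq_of_fromSpecStalk _ _ _ ?_
    refine Eq.trans ?_ (specMap_fromSpecStalk f (p x') _).symm
    rw [CommRingCat.ofHom_comp, Spec.map_comp, Category.assoc]
    refine hbase.trans ?_
    rw [Hens2.specOf, Category.assoc]
  let q := Hens2.specOf X' x' RX
  let J : Spec (CommRingCat.of (RX ⊗[RS] Ω)) ⟶ Spec (CommRingCat.of RX) :=
    Spec.map (CommRingCat.ofHom (algebraMap RX (RX ⊗[RS] Ω)))
  haveI : PreservesFiniteLimits (EtCoh.pull J) := pull_preservesFiniteLimits _
  have hJ := hla RS RX hcomp Ω n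
  have hP := (IsPullback.of_hasPullback h q).flip.paste_vert ct
  rw [hψ] at hP
  let k : pullback h q ≅ pullback (Spec.map (CommRingCat.ofHom (algebraMap RS RX)))
      (Spec.map (CommRingCat.ofHom (algebraMap RS Ω))) := hP.isoPullback
  let j : Spec (CommRingCat.of (RX ⊗[RS] Ω)) ≅ pullback h q := (pullbackSpecIso RS RX Ω).symm ≪≫ k.symm
  have hj : j.hom ≫ pullback.snd h q = J := by
    show ((pullbackSpecIso RS RX Ω).inv ≫ k.inv) ≫ _ = J
    rw [Category.assoc]
    erw [hP.isoPullback_inv_fst]
    exact pullbackSpecIso_inv_fst' _ _ _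
  haveI : PreservesFiniteLimits (EtCoh.pull (Iso.refl (Spec (CommRingCat.of RX))).hom) := pull_preservesFiniteLimits _
  haveI : PreservesFiniteLimits (EtCoh.pull j.hom) := pull_preservesFiniteLimits _
  haveI : PreservesFiniteLimits (EtCoh.pull (j.hom ≫ pullback.snd h q)) := pull_preservesFiniteLimits _
  refine (hVia_bijective_iff (pullback.snd h q) q (pullback.fst h q ≫ h) pullback.condition.symm J q (J ≫ q) rfl
    (Iso.refl _) j (Category.id_comp _) ?_ ?_ ((EtCoh.pull p).obj F) n).2 ?_
  · rw [pullback.condition, ← Category.assoc, hj]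
  · rw [hj]
    exact (Category.comp_id _).symm
  · let G := (EtCoh.pull q).obj ((EtCoh.pull p).obj F)
    haveI : IsIso (appOf (θPull J q (J ≫ q) rfl) ((EtCoh.pull p).obj F)) := by delta appOf; infer_instance
    show Function.Bijective (hThen J G (appOf (θPull J q (J ≫ q) rfl) ((EtCoh.pull p).obj F)) n)
    refine (hmap_bijective (appOf (θPull J q (J ≫ q) rfl) ((EtCoh.pull p).obj F)) n).comp ?_
    exact Hpull_bijective_of_iso J ((θPull q p _ hq).hom.app F) n hJ

end Groth.Agent.UnitStalk
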